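import Groth.Agent.S8883
import Groth.Agent.S0233
import Groth.Agent.Lib.Twist.Pullback
import Groth.Prelude.Def_Pic
import Mathlib.AlgebraicGeometry.AffineSpace

/-!
# Invertible modules on the product of a normal scheme with an open of affine space
-/

set_option autoImplicit false
universe u

open CategoryTheory CategoryTheory.Limits AlgebraicGeometry

set_option linter.style.haveILetI false
set_option backward.isDefEq.respectTransparency false

namespace Groth.Agent.PicNormal14

/-- Transport of triviality along an isomorphism of schemes. -/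
theorem nonempty_trivial_of_isOpenImmersion {F : Scheme.{u}} {A : Scheme.{u}} (w : F ⟶ A) [IsOpenImmersion w]
    (h : ∀ (U : A.Opens) (L : (U : Scheme.{u}).Modules), PicF.IsInvertible L →
      Nonempty (L ≅ Coh.structureModule (U : Scheme.{u})))
    (L : F.Modules) (hL : PicF.IsInvertible L) : Nonempty (L ≅ Coh.structureModule F) := by
  let e := w.isoOpensRange
  obtain ⟨i⟩ := h w.opensRange ((Scheme.Modules.pullback e.inv).obj L) (PicLoc.isInvertible_pullback _ hL)
  exact ⟨((Scheme.Modules.pullbackId F).app L).symm ≪≫
    (Scheme.Modules.pullbackCongr e.hom_inv_id.symm).app L ≪≫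
    ((Scheme.Modules.pullbackComp e.hom e.inv).app L).symm ≪≫
    (Scheme.Modules.pullback e.hom).mapIso i ≪≫ Twist.pullbackUnitIso e.hom⟩

set_option backward.isDefEq.respectTransparency.types false in
theorem flat_affineSpace (n : Type u) (S : Scheme.{u}) : Flat (𝔸(n; S) ↘ S) :=
  MorphismProperty.pullback_fst _ _ <| by
    have := isIso_of_isTerminal specULiftZIsTerminal.{u} terminalIsTerminal (terminal.from _)
    rw [← terminal.comp_from (Spec.map (CommRingCat.ofHom MvPolynomial.C)),
      MorphismProperty.cancel_right_of_respectsIso (P := @Flat),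
      HasRingHomProperty.Spec_iff (P := @Flat), CommRingCat.hom_ofHom, ← MvPolynomial.algebraMap_eq]
    exact RingHom.flat_algebraMap_iff.2 inferInstance

variable {S : Scheme.{u}} (m : ℕ) (U : (𝔸(ULift.{u} (Fin m); S)).Opens) {Y : Scheme.{u}} (g : Y ⟶ S)

/-- The structure map of the open subscheme of affine space. -/
noncomputable abbrev str : (U : Scheme.{u}) ⟶ S := U.ι ≫ (𝔸(ULift.{u} (Fin m); S) ↘ S)

/-- A fibre of the projection is an open subscheme of an affine space over the residue field. -/
theorem exists_fibre_immersion (y : Y) :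
    ∃ w : (pullback.fst g (str m U)).fiber y ⟶ 𝔸(ULift.{u} (Fin m); Spec (Y.residueField y)), IsOpenImmersion w := by
  let f := pullback.fst g (str m U)
  let s : Spec (Y.residueField y) ⟶ S := Y.fromSpecResidueField y ≫ g
  have h1 : IsPullback (f.fiberι y ≫ pullback.snd g (str m U)) (f.fiberToSpecResidueField y)
      (str m U) s :=
    (IsPullback.of_hasPullback f (Y.fromSpecResidueField y)).paste_horiz
      (IsPullback.of_hasPullback g (str m U)).flip
  have h2 := AffineSpace.isPullback_map (n := ULift.{u} (Fin m)) s
  let w : f.fiber y ⟶ 𝔸(ULift.{u} (Fin m); Spec (Y.residueField y)) :=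
    h2.lift ((f.fiberι y ≫ pullback.snd g (str m U)) ≫ U.ι) (f.fiberToSpecResidueField y)
      (by rw [Category.assoc]; exact h1.w)
  have h3 : IsPullback (f.fiberι y ≫ pullback.snd g (str m U)) w U.ι
      (AffineSpace.map (ULift.{u} (Fin m)) s) := by
    refine IsPullback.of_bot ?_ (h2.lift_fst _ _ _).symm h2
    rw [h2.lift_snd]
    exact h1
  exact ⟨w, MorphismProperty.of_isPullback h3 inferInstance⟩

variable {m U g}

/-- With a section the projection has integral fibres. -/
theorem surjective_fst (u : S ⟶ (U : Scheme.{u})) (hu : u ≫ str m U = 𝟙 S) : Surjective (pullback.fst g (str m U)) :=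
  ⟨fun y => ⟨pullback.lift (𝟙 Y) (g ≫ u) (by rw [Category.id_comp, Category.assoc, hu, Category.comp_id]) y, by
    rw [← Scheme.Hom.comp_apply, pullback.lift_fst]; rfl⟩⟩

theorem isIntegral_fiber (u : S ⟶ (U : Scheme.{u})) (hu : u ≫ str m U = 𝟙 S) (y : Y) :
    IsIntegral ((pullback.fst g (str m U)).fiber y) := by
  obtain ⟨w, hw⟩ := exists_fibre_immersion m U g y
  haveI := surjective_fst (g := g) u hu
  haveI : IsIntegral 𝔸(ULift.{u} (Fin m); Spec (Y.residueField y)) := inferInstance
  haveI : Nonempty ↥((pullback.fst g (str m U)).fiber y) := by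
    obtain ⟨x, hx⟩ := (pullback.fst g (str m U)).surjective y
    exact ⟨((pullback.fst g (str m U)).fiberHomeo y).symm ⟨x, hx⟩⟩
  exact isIntegral_of_isOpenImmersion w

/-- An invertible module is trivial on the generic fibre. -/
theorem nonempty_trivial_fiber (y : Y) (L : ((pullback.fst g (str m U)).fiber y).Modules) (hL : PicF.IsInvertible L) :
    Nonempty (L ≅ Coh.structureModule ((pullback.fst g (str m U)).fiber y)) := by
  obtain ⟨w, hw⟩ := exists_fibre_immersion m U g y
  haveI : IsOpenImmersion (w ≫ (AffineSpace.SpecIso (ULift.{u} (Fin m)) (Y.residueField y)).hom) := inferInstance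
  exact nonempty_trivial_of_isOpenImmersion (w ≫ (AffineSpace.SpecIso (ULift.{u} (Fin m)) (Y.residueField y)).hom)
    (fun W L hL => Groth.Agent.S0233.result (MvPolynomial (ULift.{u} (Fin m)) (Y.residueField y)) W L hL) L hL

/-- Every invertible module on the product comes from the normal base. -/
theorem exists_pullback_iso [IsNoetherian S] [IsIntegral Y] [IsNoetherian Y] (hY : Pi1.IsNormalScheme Y)
    (u : S ⟶ (U : Scheme.{u})) (hu : u ≫ str m U = 𝟙 S)
    (L : (pullback g (str m U)).Modules) (hL : PicF.IsInvertible L) :
    ∃ N : Y.Modules, PicF.IsInvertible N ∧ Nonempty (L ≅ (Scheme.Modules.pullback (pullback.fst g (str m U))).obj N) := by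
  haveI : LocallyOfFiniteType (str m U) := inferInstance
  haveI := flat_affineSpace (ULift.{u} (Fin m)) S
  haveI : Flat (str m U) := inferInstance
  haveI : Flat (pullback.fst g (str m U)) := inferInstance
  haveI : LocallyOfFiniteType (pullback.fst g (str m U)) := inferInstance
  haveI : IsLocallyNoetherian (pullback g (str m U)) :=
    LocallyOfFiniteType.isLocallyNoetherian (pullback.fst g (str m U))
  exact Groth.Agent.S8883.result _ hY (isIntegral_fiber u hu) (Or.inr inferInstance) L hL
    (nonempty_trivial_fiber _ _ (PicLoc.isInvertible_pullback _ hL))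

end Groth.Agent.PicNormal14
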