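import Groth.Agent.Lib.PicNormal14.AffOpen
import Groth.Agent.Lib.CubeField.Square
import Groth.Agent.Lib.CubeField.Simple
import Groth.Agent.Lib.CubeField.Contract

/-!
# The Picard group of a product with a rational variety
-/

set_option autoImplicit false
universe u

open CategoryTheory CategoryTheory.Limits MonoidalCategory CartesianMonoidalCategory AlgebraicGeometry

set_option linter.style.haveILetI false
set_option backward.isDefEq.respectTransparency false

namespace Groth.Agent.PicNormal14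

open CubeField

variable {k : Type u} [Field k] [IsAlgClosed k] {X Y : Over (Spec (CommRingCat.of k))}

theorem exists_point_in (W : X.left.Opens) [LocallyOfFiniteType X.hom] (hW : (W : Set X.left).Nonempty) :
    ∃ p : 𝟙_ (Over (Spec (CommRingCat.of k))) ⟶ X, rpt p ∈ W := by
  haveI : JacobsonSpace X.left := LocallyOfFiniteType.jacobsonSpace X.hom
  obtain ⟨x, hxW, hx⟩ := nonempty_inter_closedPoints hW W.isOpen.isLocallyClosed
  exact ⟨(exists_rpt (X := X) hx).choose, by rw [(exists_rpt (X := X) hx).choose_spec]; exact hxW⟩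

/-- An invertible module trivial on one slice through the rational part comes from the rational factor. -/
theorem exists_pullback_fst_iso [IsIntegral X.left] [IsSeparated X.hom] [LocallyOfFiniteType X.hom] [QuasiCompact X.hom]
    [IsIntegral Y.left] [IsSeparated Y.hom] [LocallyOfFiniteType Y.hom] [QuasiCompact Y.hom]
    (hX : Pi1.IsNormalScheme X.left) (hY : Pi1.IsNormalScheme Y.left)
    (U : X.left.Opens) (n : ℕ) (V : (𝔸(ULift.{u} (Fin n); Spec (CommRingCat.of k))).Opens)
    (e : (U : Scheme.{u}) ≅ (V : Scheme.{u}))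
    (he : e.hom ≫ str n V = U.ι ≫ X.hom)
    (x₀ : 𝟙_ (Over (Spec (CommRingCat.of k))) ⟶ X) (hx₀ : rpt x₀ ∈ U)
    (N : (X ⊗ Y).left.Modules) (hN : PicF.IsInvertible N)
    (h0 : Nonempty ((Scheme.Modules.pullback (lift (toUnit Y ≫ x₀) (𝟙 Y)).left).obj N ≅ Coh.structureModule Y.left)) :
    ∃ A : X.left.Modules, PicF.IsInvertible A ∧ Nonempty (N ≅ (Scheme.Modules.pullback (fst X Y).left).obj A) := by
  haveI : GeometricallyIntegral Y.hom := geometricallyIntegral_of_isIntegral Y.hom
  haveI : IsLocallyNoetherian X.left := LocallyOfFiniteType.isLocallyNoetherian X.hom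
  haveI : IsLocallyNoetherian Y.left := LocallyOfFiniteType.isLocallyNoetherian Y.hom
  haveI : CompactSpace Y.left := QuasiCompact.compactSpace_of_compactSpace Y.hom
  haveI : AlgebraicGeometry.IsNoetherian Y.left := { }
  let f : (pullback X.hom Y.hom) ⟶ X.left := pullback.fst X.hom Y.hom
  haveI : Flat Y.hom := inferInstance
  haveI : Flat f := inferInstance
  haveI : LocallyOfFiniteType f := inferInstance
  haveI : IsLocallyNoetherian (pullback X.hom Y.hom) := LocallyOfFiniteType.isLocallyNoetherian f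
  haveI : GeometricallyIntegral f := inferInstance
  have hfib : ∀ x : X.left, IsIntegral (f.fiber x) := fun x => inferInstance
  have hgen : Nonempty ((Scheme.Modules.pullback (f.fiberι (genericPoint X.left))).obj N ≅
      Coh.structureModule (f.fiber (genericPoint X.left))) := by
    let P := pullback Y.hom (str n V)
    let j : P ⟶ pullback X.hom Y.hom :=
      pullback.lift (pullback.snd Y.hom (str n V) ≫ e.inv ≫ U.ι) (pullback.fst Y.hom (str n V)) (by
        rw [Category.assoc, Category.assoc, ← he, e.inv_hom_id_assoc, ← pullback.condition])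
    have hr : Set.range x₀.left ⊆ Set.range U.ι := by
      rintro _ ⟨z, rfl⟩
      rw [U.range_ι, Subsingleton.elim (α := PrimeSpectrum k) z (IsLocalRing.closedPoint k)]
      exact hx₀
    let u : Spec (CommRingCat.of k) ⟶ (V : Scheme.{u}) := IsOpenImmersion.lift U.ι x₀.left hr ≫ e.hom
    have hu : u ≫ str n V = 𝟙 _ := by
      rw [Category.assoc, he, IsOpenImmersion.lift_fac_assoc]
      exact Over.w x₀
    obtain ⟨M, hM, ⟨i⟩⟩ := exists_pullback_iso (g := Y.hom) hY u hu ((Scheme.Modules.pullback j).obj N)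
      (PicLoc.isInvertible_pullback _ hN)
    let σ : Y.left ⟶ P := pullback.lift (𝟙 _) (Y.hom ≫ u) (by
      rw [Category.id_comp, Category.assoc, hu, Category.comp_id])
    have hσ : σ ≫ pullback.fst Y.hom (str n V) = 𝟙 _ := pullback.lift_fst _ _ _
    have hσj : σ ≫ j = (lift (toUnit Y ≫ x₀) (𝟙 Y)).left := by
      apply pullback.hom_ext
      · rw [Category.assoc, pullback.lift_fst, pullback.lift_snd_assoc]
        simp only [u, Category.assoc, e.hom_inv_id_assoc, IsOpenImmersion.lift_fac]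
        exact (pullback.lift_fst (toUnit Y ≫ x₀).left (𝟙 Y : Y ⟶ Y).left (by rw [Over.w, Over.w])).symm
      · rw [Category.assoc, pullback.lift_snd, pullback.lift_fst]
        exact (pullback.lift_snd (toUnit Y ≫ x₀).left (𝟙 Y : Y ⟶ Y).left (by rw [Over.w, Over.w])).symm
    obtain ⟨t⟩ := h0
    let τ : M ≅ Coh.structureModule Y.left := ((Scheme.Modules.pullbackId _).app M).symm ≪≫
      (Scheme.Modules.pullbackCongr hσ.symm).app M ≪≫ ((Scheme.Modules.pullbackComp σ _).app M).symm ≪≫
      (Scheme.Modules.pullback σ).mapIso i.symm ≪≫ (Scheme.Modules.pullbackComp σ j).app N ≪≫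
      (Scheme.Modules.pullbackCongr hσj).app N ≪≫ t
    let F := f.fiber (genericPoint X.left)
    let ιη : F ⟶ pullback X.hom Y.hom := f.fiberι (genericPoint X.left)
    have hr' : Set.range (ιη ≫ f) ⊆ Set.range U.ι := by
      rintro _ ⟨z, rfl⟩
      have hz : (ιη ≫ f) z = genericPoint X.left := by
        have : ιη z ∈ f ⁻¹' {genericPoint X.left} := by
          rw [← f.range_fiberι]; exact ⟨z, rfl⟩
        rw [Scheme.Hom.comp_apply]
        exact this
      rw [U.range_ι, hz]
      exact ((genericPoint_spec X.left).mem_open_set_iff U.2).2 ⟨_, trivial, hx₀⟩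
    let l : F ⟶ P := pullback.lift (ιη ≫ pullback.snd X.hom Y.hom) (IsOpenImmersion.lift U.ι (ιη ≫ f) hr' ≫ e.hom) (by
      simp only [Category.assoc, he, IsOpenImmersion.lift_fac_assoc]
      rw [← pullback.condition])
    have hl : l ≫ j = ιη := by
      apply pullback.hom_ext
      · rw [Category.assoc, pullback.lift_fst, pullback.lift_snd_assoc]
        simp only [Category.assoc, e.hom_inv_id_assoc, IsOpenImmersion.lift_fac]
        rfl
      · rw [Category.assoc, pullback.lift_snd, pullback.lift_fst]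
    exact ⟨(Scheme.Modules.pullbackCongr hl.symm).app N ≪≫ ((Scheme.Modules.pullbackComp l j).app N).symm ≪≫
      (Scheme.Modules.pullback l).mapIso (i ≪≫ (Scheme.Modules.pullback _).mapIso τ ≪≫ Twist.pullbackUnitIso _) ≪≫
      Twist.pullbackUnitIso l⟩
  exact Groth.Agent.S8883.result f hX hfib (Or.inr inferInstance) N hN hgen

/-- `Pic X × Pic Y ≅ Pic (X × Y)` for rational `X`. -/
theorem bijective_mul [IsIntegral X.left] [IsSeparated X.hom] [LocallyOfFiniteType X.hom] [QuasiCompact X.hom]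
    [IsIntegral Y.left] [IsSeparated Y.hom] [LocallyOfFiniteType Y.hom] [QuasiCompact Y.hom]
    (hX : Pi1.IsNormalScheme X.left) (hY : Pi1.IsNormalScheme Y.left)
    (U : X.left.Opens) (n : ℕ) (V : (𝔸(ULift.{u} (Fin n); Spec (CommRingCat.of k))).Opens)
    (e : (U : Scheme.{u}) ≅ (V : Scheme.{u})) (hU : (U : Set X.left).Nonempty)
    (he : e.hom ≫ str n V = U.ι ≫ X.hom)
    [PicGrp.Law X.left] [PicGrp.Law Y.left] [PicGrp.Law (X ⊗ Y).left]
    (h₁ : PicGrp.PullMul (fst X Y).left) (h₂ : PicGrp.PullMul (snd X Y).left) :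
    Function.Bijective (fun cd : PicLoc.PicSet X.left × PicLoc.PicSet Y.left =>
      PicGrp.pullHom (fst X Y).left h₁ cd.1 * PicGrp.pullHom (snd X Y).left h₂ cd.2) := by
  obtain ⟨x₀, hx₀⟩ := exists_point_in U hU
  obtain ⟨y₀, -⟩ := exists_point_in (X := Y) ⊤ Set.univ_nonempty
  let σx : Y ⟶ X ⊗ Y := lift (toUnit Y ≫ x₀) (𝟙 Y)
  let σy : X ⟶ X ⊗ Y := lift (𝟙 X) (toUnit X ≫ y₀)
  letI : PicGrp.Law (𝟙_ (Over (Spec (CommRingCat.of k)))).left := M2.law _
  have hcomp : ∀ {A B C : Over (Spec (CommRingCat.of k))} [PicGrp.Law A.left] [PicGrp.Law B.left] [PicGrp.Law C.left]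
      (s : A ⟶ B) (t : B ⟶ C) (h : PicGrp.PullMul t.left) (c : PicLoc.PicSet C.left),
      PicGrp.pullHom s.left (M2.pullMul _) (PicGrp.pullHom t.left h c) = PicGrp.pullHom (s ≫ t).left (M2.pullMul _) c := by
    intro A B C _ _ _ s t h c
    obtain ⟨L, hL, rfl⟩ := PicGrp.exists_eq_cls c
    rw [PicGrp.pullHom_cls, PicGrp.pullHom_cls, PicGrp.pullHom_cls]
    exact Subtype.ext (M2.cl_eq_of_iso ((Scheme.Modules.pullbackComp s.left t.left).app L))
  have hid : ∀ {A : Over (Spec (CommRingCat.of k))} [PicGrp.Law A.left] (s : A ⟶ A), s = 𝟙 A →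
      ∀ c : PicLoc.PicSet A.left, PicGrp.pullHom s.left (M2.pullMul _) c = c := by
    rintro A _ _ rfl c
    obtain ⟨L, hL, rfl⟩ := PicGrp.exists_eq_cls c
    rw [PicGrp.pullHom_cls]
    exact Subtype.ext (M2.cl_eq_of_iso ((Scheme.Modules.pullbackId A.left).app L))
  have hconst : ∀ {A B : Over (Spec (CommRingCat.of k))} [PicGrp.Law A.left] [PicGrp.Law B.left]
      (p : 𝟙_ (Over (Spec (CommRingCat.of k))) ⟶ B) (c : PicLoc.PicSet B.left),
      PicGrp.pullHom (toUnit A ≫ p).left (M2.pullMul _) c = 1 := by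
    intro A B _ _ p c
    rw [← hcomp (toUnit A) p (M2.pullMul _)]
    have h1 : PicGrp.pullHom p.left (M2.pullMul _) c = 1 := by
      obtain ⟨L, hL, rfl⟩ := PicGrp.exists_eq_cls c
      rw [PicGrp.pullHom_cls, PicGrp.cls_eq_one_iff]
      exact nonempty_trivial_field _ (PicLoc.isInvertible_pullback _ hL)
    rw [h1, map_one]
  have kx : ∀ a, PicGrp.pullHom σx.left (M2.pullMul _) (PicGrp.pullHom (fst X Y).left h₁ a) = 1 := fun a => by
    rw [hcomp, show σx ≫ fst X Y = toUnit Y ≫ x₀ by simp [σx]]; exact hconst x₀ a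
  have kx' : ∀ b, PicGrp.pullHom σx.left (M2.pullMul _) (PicGrp.pullHom (snd X Y).left h₂ b) = b := fun b => by
    rw [hcomp]; exact hid _ (by simp [σx]) b
  have ky : ∀ b, PicGrp.pullHom σy.left (M2.pullMul _) (PicGrp.pullHom (snd X Y).left h₂ b) = 1 := fun b => by
    rw [hcomp, show σy ≫ snd X Y = toUnit X ≫ y₀ by simp [σy]]; exact hconst y₀ b
  have ky' : ∀ a, PicGrp.pullHom σy.left (M2.pullMul _) (PicGrp.pullHom (fst X Y).left h₁ a) = a := fun a => by
    rw [hcomp]; exact hid _ (by simp [σy]) a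
  refine ⟨fun ⟨a, b⟩ ⟨a', b'⟩ h => Prod.ext ?_ ?_, fun c => ?_⟩
  · have := congrArg (PicGrp.pullHom σy.left (M2.pullMul _)) h
    simpa only [map_mul, ky, ky', mul_one] using this
  · have := congrArg (PicGrp.pullHom σx.left (M2.pullMul _)) h
    simpa only [map_mul, kx, kx', one_mul] using this
  · let d := PicGrp.pullHom σx.left (M2.pullMul _) c
    obtain ⟨N, hN, hcN⟩ := PicGrp.exists_eq_cls (c * (PicGrp.pullHom (snd X Y).left h₂ d)⁻¹)
    have h0 : PicGrp.pullHom σx.left (M2.pullMul _) (PicGrp.cls N hN) = 1 := by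
      rw [← hcN, map_mul, map_inv, kx']
      exact mul_inv_cancel _
    rw [PicGrp.pullHom_cls, PicGrp.cls_eq_one_iff] at h0
    obtain ⟨A, hA, ⟨i⟩⟩ := exists_pullback_fst_iso hX hY U n V e he x₀ hx₀ N hN h0
    refine ⟨(PicGrp.cls A hA, d), ?_⟩
    show PicGrp.pullHom (fst X Y).left h₁ (PicGrp.cls A hA) * PicGrp.pullHom (snd X Y).left h₂ d = c
    rw [← eq_mul_inv_iff_mul_eq, hcN, PicGrp.pullHom_cls]
    exact Subtype.ext (M2.cl_eq_of_iso i.symm)

end Groth.Agent.PicNormal14
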